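import Cfsg.Agent.Lib.Sporadic.ThGL.D4PointData
import Mathlib.GroupTheory.GroupAction.Blocks
import Mathlib.Algebra.BigOperators.Fin
import Mathlib.GroupTheory.Perm.Basic
import Mathlib.GroupTheory.QuotientGroup.Basic
import Mathlib.Tactic.Group
import Mathlib.GroupTheory.Subgroup.Simple

/-!
# A simplicity criterion for the triality group of order 211341312 on 819 points
-/

set_option autoImplicit false
set_option maxRecDepth 100000

namespace CfsgLib.Sporadic.ThGL.D4Point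

/-- The five permutations fixing the first point. -/
def perms : List (List ℕ) := [perm_a, perm_c, perm_d, perm_e, perm_s]

/-- The value of a permutation. -/
def pv (k i : ℕ) : ℕ := (perms.getD k []).getD i 0

theorem roots_ok : roots.length = 4 ∧ ∀ j < 4, roots.getD j 0 < 819 ∧ label.getD (roots.getD j 0) 0 = j := by
  decide +kernel

theorem size_ok : ∀ j < 4, ((List.range 819).filter fun i => Nat.beq (label.getD i 0) j).length = sizes.getD j 0 := by
  decide +kernel

theorem tree_ok : ∀ i < 819, label.getD i 0 < 4 ∧ (depth.getD i 0 = 0 → i = roots.getD (label.getD i 0) 0) ∧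
    (depth.getD i 0 ≠ 0 → parent.getD i 0 < 819 ∧ via.getD i 0 < 5 ∧
      label.getD (parent.getD i 0) 0 = label.getD i 0 ∧ depth.getD (parent.getD i 0) 0 < depth.getD i 0 ∧
      pv (via.getD i 0) (parent.getD i 0) = i) := by
  decide +kernel

theorem sums_ok : ∀ s : Finset (Fin 4), (0 : Fin 4) ∈ s → (∑ j ∈ s, sizes.getD (j : ℕ) 0) ∣ 819 →
    s = {0} ∨ s = Finset.univ := by
  decide +kernel

theorem label_zero : label.getD 0 0 = 0 ∧ roots.getD 0 0 = 0 ∧ sizes.getD 0 0 = 1 := by decide +kernel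

variable {G : Type*} [Group G] (φ : G →* Equiv.Perm (Fin 819))

/-- A set of points closed under the five permutations and their inverses is a union of suborbits. -/
theorem mem_iff_root (O : Set (Fin 819)) (g : Fin 5 → G) (hg : ∀ k i, (φ (g k) i : ℕ) = pv k i)
    (hO : ∀ k u, φ (g k) u ∈ O ↔ u ∈ O) (v : Fin 819) :
    v ∈ O ↔ (⟨roots.getD (label.getD v 0) 0,
      (roots_ok.2 _ (tree_ok v v.2).1).1⟩ : Fin 819) ∈ O := by
  obtain ⟨n, hn⟩ : ∃ n, depth.getD v 0 = n := ⟨_, rfl⟩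
  induction n using Nat.strong_induction_on generalizing v with
  | _ n ih =>
    obtain ⟨-, h0, h1⟩ := tree_ok v v.2
    by_cases hd : depth.getD v 0 = 0
    · have e := h0 hd
      exact iff_of_eq (congrArg (· ∈ O) (Fin.ext e))
    · obtain ⟨hp, hk, hl, hlt, he⟩ := h1 hd
      have hv : φ (g ⟨via.getD v 0, hk⟩) ⟨parent.getD v 0, hp⟩ = v := Fin.ext ((hg _ _).trans he)
      have := ih _ (hn ▸ hlt) ⟨parent.getD v 0, hp⟩ rfl
      rw [← hO ⟨via.getD v 0, hk⟩ ⟨parent.getD v 0, hp⟩, hv] at this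
      simpa only [hl] using this

/-- A normal subgroup that moves a point moves the first point to every point. -/
theorem normal_transitive (hinj : Function.Injective φ) (htr : ∀ u, ∃ x, φ x 0 = u) (g : Fin 5 → G)
    (hg : ∀ k i, (φ (g k) i : ℕ) = pv k i) (hfix : ∀ k, φ (g k) 0 = 0) (M : Subgroup G) [M.Normal]
    (hM : M ≠ ⊥) (u : Fin 819) : ∃ m ∈ M, φ m 0 = u := by
  classical
  let : MulAction G (Fin 819) := MulAction.compHom _ φ
  have hsmul : ∀ (x : G) (v : Fin 819), x • v = φ x v := fun _ _ => rfl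
  have : MulAction.IsPretransitive G (Fin 819) := ⟨fun v w => by
    obtain ⟨x, hx⟩ := htr v
    obtain ⟨y, hy⟩ := htr w
    refine ⟨y * x⁻¹, ?_⟩
    rw [mul_smul, hsmul, hsmul, map_inv, ← hx]
    simp [hy]⟩
  let O : Set (Fin 819) := MulAction.orbit M (0 : Fin 819)
  have hmem : ∀ w, w ∈ O ↔ ∃ m ∈ M, φ m 0 = w := fun w =>
    ⟨fun ⟨⟨m, hm⟩, e⟩ => ⟨m, hm, e⟩, fun ⟨m, hm, e⟩ => ⟨⟨m, hm⟩, e⟩⟩
  have hO : ∀ k w, φ (g k) w ∈ O ↔ w ∈ O := by
    have key : ∀ x : G, φ x 0 = 0 → ∀ w ∈ O, φ x w ∈ O := by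
      intro x hx w hw
      obtain ⟨m, hm, rfl⟩ := (hmem _).1 hw
      refine (hmem _).2 ⟨x * m * x⁻¹, Subgroup.Normal.conj_mem ‹M.Normal› m hm x, ?_⟩
      have hx' : φ x⁻¹ 0 = 0 := by
        rw [map_inv]
        exact Equiv.Perm.inv_eq_iff_eq.2 hx.symm
      rw [map_mul, map_mul, Equiv.Perm.mul_apply, hx', Equiv.Perm.mul_apply]
    intro k w
    refine ⟨fun h => ?_, key _ (hfix k) w⟩
    have := key (g k)⁻¹ (by rw [map_inv]; exact Equiv.Perm.inv_eq_iff_eq.2 (hfix k).symm) _ h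
    rwa [map_inv, Equiv.Perm.inv_def, Equiv.symm_apply_apply] at this
  let rt : Fin 4 → Fin 819 := fun j => ⟨roots.getD j 0, (roots_ok.2 _ j.2).1⟩
  let lb : Fin 819 → Fin 4 := fun v => ⟨label.getD v 0, (tree_ok v v.2).1⟩
  have hroot : ∀ v, v ∈ O ↔ rt (lb v) ∈ O := fun v => mem_iff_root φ O g hg hO v
  let s : Finset (Fin 4) := Finset.univ.filter fun j => rt j ∈ O
  have h0 : (0 : Fin 4) ∈ s := by
    refine Finset.mem_filter.2 ⟨Finset.mem_univ _, ?_⟩
    rw [show rt 0 = (0 : Fin 819) from Fin.ext label_zero.2.1]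
    exact MulAction.mem_orbit_self _
  have hfib : ∀ j : Fin 4, (Finset.univ.filter fun v => lb v = j).card = sizes.getD (j : ℕ) 0 := by
    intro j
    rw [← size_ok j j.2, ← List.toFinset_card_of_nodup (List.nodup_range.filter _)]
    refine Finset.card_bij (fun v _ => (v : ℕ)) ?_ (fun v _ w _ e => Fin.ext e) ?_
    · intro v hv
      rw [List.mem_toFinset, List.mem_filter]
      exact ⟨List.mem_range.2 v.2, Nat.beq_eq.mpr (congrArg Fin.val (Finset.mem_filter.1 hv).2)⟩
    · intro i hi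
      rw [List.mem_toFinset, List.mem_filter] at hi
      exact ⟨⟨i, List.mem_range.1 hi.1⟩, Finset.mem_filter.2 ⟨Finset.mem_univ _, Fin.ext (Nat.beq_eq.mp hi.2)⟩, rfl⟩
  have hcard : O.ncard = ∑ j ∈ s, sizes.getD (j : ℕ) 0 := by
    have e : O.toFinset = Finset.univ.filter fun v => lb v ∈ s := by
      ext v
      simp only [Set.mem_toFinset, Finset.mem_filter, Finset.mem_univ, true_and, s]
      exact hroot v
    rw [Set.ncard_eq_toFinset_card', e, ← Finset.sum_congr rfl fun j _ => hfib j,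
      Finset.sum_card_fiberwise_eq_card_filter]
  have hblk : MulAction.IsBlock G O := MulAction.IsBlock.orbit_of_normal _
  have hdvd : O.ncard ∣ 819 := by
    simpa using hblk.ncard_dvd_card ⟨0, MulAction.mem_orbit_self _⟩
  rcases sums_ok s h0 (hcard ▸ hdvd) with hs | hs
  · exfalso
    apply hM
    have h1 : ∀ w ∈ O, w = (0 : Fin 819) := by
      rw [hs, Finset.sum_singleton] at hcard
      obtain ⟨w₀, hw₀⟩ := Set.ncard_eq_one.1 (hcard.trans label_zero.2.2)
      have h0O : (0 : Fin 819) ∈ O := MulAction.mem_orbit_self _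
      rw [hw₀, Set.mem_singleton_iff] at h0O
      intro w hw
      rw [hw₀, Set.mem_singleton_iff] at hw
      rw [hw, ← h0O]
    rw [Subgroup.eq_bot_iff_forall]
    intro m hm
    apply hinj
    rw [map_one]
    refine Equiv.ext fun v => ?_
    obtain ⟨x, rfl⟩ := htr v
    have := h1 _ ((hmem _).2 ⟨x⁻¹ * m * x, by
      simpa using Subgroup.Normal.conj_mem ‹M.Normal› m hm x⁻¹, rfl⟩)
    rw [map_mul, map_mul, map_inv, Equiv.Perm.mul_apply, Equiv.Perm.mul_apply,
      Equiv.Perm.inv_eq_iff_eq] at this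
    simpa using this
  · refine (hmem u).1 ((hroot u).2 ?_)
    exact (Finset.mem_filter.1 (show lb u ∈ s by rw [hs]; exact Finset.mem_univ _)).2

/-- The relations used between the six generators. -/
structure Rels (a b c d e s : G) : Prop where
  a2 : a ^ 2 = 1
  b2 : b ^ 2 = 1
  c2 : c ^ 2 = 1
  d2 : d ^ 2 = 1
  ab : (a * b) ^ 3 = 1
  bc : (b * c) ^ 3 = 1
  acd : a = (c * d) ^ 4
  de : (d * e) ^ 3 = 1
  bcde : (b * c * d * e) ^ 8 = 1
  s7 : s ^ 7 = 1
  sd : (s * d) ^ 2 = 1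
  es : e⁻¹ * s⁻¹ * e * s = (s ^ 3)⁻¹ * e * s ^ 3

theorem eq_of_commute {H : Type*} [Group H] {x y : H} (h : x * y = y * x) (hx : x ^ 2 = 1) (hy : y ^ 2 = 1)
    (h3 : (x * y) ^ 3 = 1) : x = y := by
  have h2 : (x * y) ^ 2 = 1 := by rw [Commute.mul_pow h, hx, hy, one_mul]
  have h1 : x * y = 1 := by
    calc x * y = (x * y) ^ 3 * ((x * y) ^ 2)⁻¹ := by group
      _ = 1 := by rw [h2, h3]; simp
  calc x = x * y ^ 2 := by rw [hy, mul_one]
    _ = y := by rw [pow_two, ← mul_assoc, h1, one_mul]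

theorem trivial_of_central {H : Type*} [Group H] {a b c d e s : H} (R : Rels a b c d e s)
    (hz : ∀ x, a * x = x * a) : a = 1 ∧ b = 1 ∧ c = 1 ∧ d = 1 ∧ e = 1 ∧ s = 1 := by
  have hab : a = b := eq_of_commute (hz b) R.a2 R.b2 R.ab
  have hbc : b = c := eq_of_commute (by rw [← hab]; exact hz c) R.b2 R.c2 R.bc
  have hac : a = c := hab.trans hbc
  have ha : a = 1 := by
    rw [R.acd, ← hac, show (a * d) ^ 4 = ((a * d) ^ 2) ^ 2 from pow_mul _ 2 2, Commute.mul_pow (hz d),
      R.a2, R.d2, one_mul, one_pow]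
  have hb : b = 1 := hab ▸ ha
  have hc : c = 1 := hac ▸ ha
  have hde : d * e = 1 := by
    have h8 := R.bcde
    rw [hb, hc, one_mul, one_mul] at h8
    calc d * e = ((d * e) ^ 3) ^ 3 * ((d * e) ^ 8)⁻¹ := by group
      _ = 1 := by rw [h8, R.de]; simp
  have hd : d * d = 1 := by rw [← pow_two, R.d2]
  have he : e = d := mul_left_cancel (hde.trans hd.symm)
  have hdi : d⁻¹ = d := inv_eq_of_mul_eq_one_left hd
  have hsd : d * s⁻¹ * d = s := by
    have h := R.sd
    rw [pow_two] at h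
    have h' : d * s * d = s⁻¹ := by
      apply eq_inv_of_mul_eq_one_right
      rw [← h]
      group
    calc d * s⁻¹ * d = d⁻¹ * (d * s * d) * d := by rw [hdi, h']
      _ = s * (d * d) := by group
      _ = s := by rw [hd, mul_one]
  have h2 : s * s = (s ^ 3)⁻¹ * d * s ^ 3 := by
    have h := R.es
    rw [he, hdi] at h
    rw [hsd] at h
    exact h
  have h4 : s ^ 4 = 1 := by
    rw [show s ^ 4 = (s * s) * (s * s) from (pow_add s 2 2).trans (by rw [pow_two]), h2,
      show (s ^ 3)⁻¹ * d * s ^ 3 * ((s ^ 3)⁻¹ * d * s ^ 3) = (s ^ 3)⁻¹ * (d * d) * s ^ 3 by group, hd]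
    group
  have hs : s = 1 := by
    calc s = (s ^ 4) ^ 2 * (s ^ 7)⁻¹ := by group
      _ = 1 := by rw [h4, R.s7]; simp
  have hd1 : d = 1 := by
    rw [hs] at h2
    simpa using h2.symm
  exact ⟨ha, hb, hc, hd1, he.trans hd1, hs⟩

/-- Simplicity from the action on the points. -/
theorem isSimpleGroup_of_point [Nontrivial G] (hinj : Function.Injective φ) (htr : ∀ u, ∃ x, φ x 0 = u)
    (g : Fin 5 → G) (b : G) (hg : ∀ k i, (φ (g k) i : ℕ) = pv k i) (hfix : ∀ k, φ (g k) 0 = 0)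
    (R : Rels (g 0) b (g 1) (g 2) (g 3) (g 4))
    (hgen : Subgroup.closure {g 0, b, g 1, g 2, g 3, g 4} = ⊤)
    (hstab : ∀ x, φ x 0 = 0 → g 0 * x = x * g 0) : IsSimpleGroup G := by
  refine ⟨fun M hM => ?_⟩
  rcases eq_or_ne M ⊥ with h | h
  · exact Or.inl h
  right
  have htrans := normal_transitive φ hinj htr g hg hfix M h
  let q := QuotientGroup.mk' M
  have hq : ∀ x, q x = 1 → x ∈ M := fun x hx => (QuotientGroup.eq_one_iff x).1 hx
  have hz : ∀ y, q (g 0) * y = y * q (g 0) := by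
    intro y
    obtain ⟨x, rfl⟩ := QuotientGroup.mk'_surjective M y
    obtain ⟨m, hm, hm'⟩ := htrans (φ x 0)
    have hst : φ (m⁻¹ * x) 0 = 0 := by
      rw [map_mul, Equiv.Perm.mul_apply, ← hm', map_inv, Equiv.Perm.inv_def, Equiv.symm_apply_apply]
    have e : q (m⁻¹ * x) = q x := by
      rw [map_mul, map_inv, show q m = 1 from (QuotientGroup.eq_one_iff m).2 hm, inv_one, one_mul]
    have := congrArg q (hstab _ hst)
    rwa [map_mul q (g 0), map_mul q (m⁻¹ * x) (g 0), e] at this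
  have Rq : Rels (q (g 0)) (q b) (q (g 1)) (q (g 2)) (q (g 3)) (q (g 4)) := by
    refine ⟨?_, ?_, ?_, ?_, ?_, ?_, ?_, ?_, ?_, ?_, ?_, ?_⟩ <;>
      simp only [← map_mul, ← map_pow, ← map_inv]
    · rw [R.a2, map_one]
    · rw [R.b2, map_one]
    · rw [R.c2, map_one]
    · rw [R.d2, map_one]
    · rw [R.ab, map_one]
    · rw [R.bc, map_one]
    · exact congrArg q R.acd
    · rw [R.de, map_one]
    · rw [R.bcde, map_one]
    · rw [R.s7, map_one]
    · rw [R.sd, map_one]
    · exact congrArg q R.es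
  obtain ⟨ha, hb, hc, hd, he, hs⟩ := trivial_of_central Rq hz
  rw [eq_top_iff, ← hgen, Subgroup.closure_le]
  intro x hx
  simp only [Set.mem_insert_iff, Set.mem_singleton_iff] at hx
  rcases hx with rfl | rfl | rfl | rfl | rfl | rfl
  exacts [hq _ ha, hq _ hb, hq _ hc, hq _ hd, hq _ he, hq _ hs]

end CfsgLib.Sporadic.ThGL.D4Point
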