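import Cfsg.Agent.Lib.Sporadic.ThGL.D4Simple
import Cfsg.Prelude.Def_Exceptional

/-!
# The subgroup of index three in the extension of the triality group
-/

set_option autoImplicit false

namespace CfsgLib.Sporadic.ThGL.D4Point

variable {G : Type*} [Group G]

/-- The six generators of the triality group. -/
def six (g : Fin 5 → G) (b : G) : Set G := {g 0, b, g 1, g 2, g 3, g 4}

/-- The subgroup of index three is the triality group of order 211341312, and simple. -/
theorem is3D4_six (φ : G →* Equiv.Perm (Fin 819)) (hinj : Function.Injective φ)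
    (htr : ∀ u, ∃ x, φ x 0 = u) (g : Fin 5 → G) (b t : G) (hg : ∀ k i, (φ (g k) i : ℕ) = pv k i)
    (hfix : ∀ k, φ (g k) 0 = 0) (R : Rels (g 0) b (g 1) (g 2) (g 3) (g 4))
    (hgen : Subgroup.closure (six g b ∪ {t}) = ⊤) (ht : t ^ 3 = 1)
    (hta : t * g 0 = g 0 * t) (htb : t * b = b * t) (htc : t * g 1 = g 1 * t)
    (htd : t * g 2 = g 2 * t) (hte : t * g 3 = g 3 * t) (hts : t⁻¹ * g 4 * t = g 4 ^ 2)
    (χ : G →* Multiplicative (ZMod 3)) (hχ : ∀ x ∈ six g b, χ x = 1) (hχt : χ t ≠ 1)
    (hstab : ∀ x, φ x 0 = 0 → g 0 * x = x * g 0) (hcard : Nat.card G = 634023936) :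
    Cfsg.Is3D4 (Subgroup.closure (six g b)) := by
  classical
  have : Finite G := Nat.finite_of_card_ne_zero (by rw [hcard]; norm_num)
  set L := Subgroup.closure (six g b) with hL
  have hmemL : ∀ x ∈ six g b, x ∈ L := fun x hx => Subgroup.subset_closure hx
  have hconj : ∀ x ∈ L, t * x * t⁻¹ ∈ L := by
    intro x hx
    induction hx using Subgroup.closure_induction with
    | mem y hy =>
      have hc : ∀ z : G, t * z = z * t → z ∈ L → t * z * t⁻¹ ∈ L := fun z hz hzL => by
        rw [hz, mul_inv_cancel_right]; exact hzL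
      rcases hy with rfl | rfl | rfl | rfl | rfl | rfl
      · exact hc _ hta (hmemL _ (by simp [six]))
      · exact hc _ htb (hmemL _ (by simp [six]))
      · exact hc _ htc (hmemL _ (by simp [six]))
      · exact hc _ htd (hmemL _ (by simp [six]))
      · exact hc _ hte (hmemL _ (by simp [six]))
      · have e : t * g 4 * t⁻¹ = g 4 ^ 4 := by
          have ti : t⁻¹ * t⁻¹ = t := by
            calc t⁻¹ * t⁻¹ = (t ^ 3)⁻¹ * t := by group
              _ = t := by rw [ht]; simp
          calc t * g 4 * t⁻¹ = (t⁻¹ * t⁻¹) * g 4 * (t⁻¹ * t⁻¹)⁻¹ := by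
                rw [ti]
            _ = t⁻¹ * (t⁻¹ * g 4 * t) * t := by simp only [mul_inv_rev, inv_inv, mul_assoc]
            _ = (t⁻¹ * g 4 * t) * (t⁻¹ * g 4 * t) := by
                conv_lhs => rw [hts, pow_two]
                simp only [mul_assoc, mul_inv_cancel_left]
            _ = g 4 ^ 4 := by rw [hts, ← pow_add]
        rw [e]
        exact pow_mem (hmemL _ (by simp [six])) 4
    | one => simp
    | mul y z _ _ hy hz => simpa [mul_assoc] using mul_mem hy hz
    | inv y _ hy => simpa [mul_assoc] using inv_mem hy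
  have hconj' : ∀ x ∈ L, t⁻¹ * x * t ∈ L := fun x hx => by
    have e : t⁻¹ * x * t = t * (t * x * t⁻¹) * t⁻¹ := by
      calc t⁻¹ * x * t = (t ^ 3)⁻¹ * (t * (t * x * t⁻¹) * t⁻¹) * t ^ 3 := by group
        _ = t * (t * x * t⁻¹) * t⁻¹ := by rw [ht]; simp
    rw [e]
    exact hconj _ (hconj x hx)
  have : L.Normal := by
    rw [← Subgroup.normalizer_eq_top_iff, eq_top_iff, ← hgen, Subgroup.closure_le]
    rintro x (hx | hx)
    · exact Subgroup.le_normalizer (hmemL x hx)
    · rw [Set.mem_singleton_iff] at hx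
      subst hx
      refine Subgroup.mem_normalizer_iff.2 fun y => ⟨hconj y, fun hy => ?_⟩
      simpa [mul_assoc] using hconj' _ hy
  have hker : χ.ker = L := by
    refine le_antisymm (fun x hx => ?_) ((Subgroup.closure_le _).2 fun x hx => hχ x hx)
    have hsup : L ⊔ Subgroup.zpowers t = ⊤ := by
      rw [← hgen, Subgroup.closure_union, Subgroup.zpowers_eq_closure]
    obtain ⟨l, hl, y, hy, rfl⟩ := Subgroup.mem_sup_of_normal_left.1
      (show x ∈ L ⊔ Subgroup.zpowers t by rw [hsup]; exact Subgroup.mem_top x)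
    obtain ⟨k, rfl⟩ := Subgroup.mem_zpowers_iff.1 hy
    have hl' : χ l = 1 := (Subgroup.closure_le χ.ker).2 (fun z hz => hχ z hz) hl
    rw [MonoidHom.mem_ker, map_mul, hl', one_mul, map_zpow] at hx
    have ho : orderOf (χ t) = 3 := orderOf_eq_prime (by rw [← map_pow, ht, map_one]) hχt
    obtain ⟨j, rfl⟩ : (3 : ℤ) ∣ k := by
      have := orderOf_dvd_iff_zpow_eq_one.2 hx
      rwa [ho] at this
    rw [zpow_mul, show t ^ (3 : ℤ) = 1 by exact_mod_cast ht, one_zpow, mul_one]
    exact hl
  have hcardL : Nat.card L = 211341312 := by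
    have h1 := Subgroup.card_mul_index χ.ker
    have hr : χ.range = ⊤ := by
      have : Fact (Nat.Prime 3) := ⟨by norm_num⟩
      rcases χ.range.eq_bot_or_eq_top_of_prime_card
        (hp := ⟨by norm_num⟩) with h | h
      · exact absurd ((Subgroup.eq_bot_iff_forall _).1 h _ ⟨t, rfl⟩) hχt
      · exact h
    rw [Subgroup.index_ker, hr, Subgroup.card_top, hcard, hker] at h1
    have h3 : Nat.card (Multiplicative (ZMod 3)) = 3 :=
      (Nat.card_congr Multiplicative.toAdd).trans (Nat.card_zmod 3)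
    rw [h3] at h1
    omega
  have : Nontrivial L := by
    rw [← Finite.one_lt_card_iff_nontrivial, hcardL]
    norm_num
  have hne : L ≠ ⊥ := fun h => by rw [h, Subgroup.card_bot] at hcardL; norm_num at hcardL
  let gL : Fin 5 → L := fun k => ⟨g k, hmemL _ (by fin_cases k <;> simp [six])⟩
  let bL : L := ⟨b, hmemL _ (by simp [six])⟩
  refine ⟨isSimpleGroup_of_point (φ.comp L.subtype) (hinj.comp L.subtype_injective) (fun u => ?_) gL bL
    (fun k i => hg k i) (fun k => hfix k) ?_ ?_ ?_, 2, Nat.prime_two.isPrimePow, by rw [hcardL]; norm_num⟩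
  · obtain ⟨m, hm, e⟩ := normal_transitive φ hinj htr g hg hfix L hne u
    exact ⟨⟨m, hm⟩, e⟩
  · exact ⟨Subtype.ext R.a2, Subtype.ext R.b2, Subtype.ext R.c2, Subtype.ext R.d2, Subtype.ext R.ab,
      Subtype.ext R.bc, Subtype.ext R.acd, Subtype.ext R.de, Subtype.ext R.bcde, Subtype.ext R.s7,
      Subtype.ext R.sd, Subtype.ext R.es⟩
  · apply Subgroup.map_injective L.subtype_injective
    rw [MonoidHom.map_closure, ← MonoidHom.range_eq_map, Subgroup.range_subtype]
    refine le_antisymm ((Subgroup.closure_le _).2 ?_) ((Subgroup.closure_le _).2 fun x hx => Subgroup.subset_closure ?_)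
    · rintro _ ⟨x, -, rfl⟩
      exact x.2
    · rw [Set.mem_image]
      rcases hx with rfl | rfl | rfl | rfl | rfl | rfl
      exacts [⟨gL 0, by simp, rfl⟩, ⟨bL, by simp, rfl⟩, ⟨gL 1, by simp, rfl⟩, ⟨gL 2, by simp, rfl⟩,
        ⟨gL 3, by simp, rfl⟩, ⟨gL 4, by simp, rfl⟩]
  · exact fun x hx => Subtype.ext (hstab _ hx)

end CfsgLib.Sporadic.ThGL.D4Point
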