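import Cfsg.Agent.Lib.Sporadic.ThGL.Wide
import Cfsg.Agent.Lib.Sporadic.ThGL.DataA
import Cfsg.Agent.Lib.Sporadic.ThGL.DataB
import Cfsg.Agent.Lib.Sporadic.ThGL.DataC
import Cfsg.Agent.Lib.Sporadic.ThGL.DataD
import Cfsg.Agent.Lib.Sporadic.ThGL.DataE
import Cfsg.Agent.Lib.Sporadic.ThGL.DataS
import Cfsg.Agent.Lib.Sporadic.ThGL.DataT
import Cfsg.Agent.Lib.Sporadic.ThGL.DataU
import Cfsg.Agent.Lib.Sporadic.ThGL.DataSI
import Cfsg.Agent.Lib.Sporadic.ThGL.DataTI
import Cfsg.Agent.Lib.Sporadic.ThGL.DataUI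

/-!
# The letters of the matrix representation of degree 248
-/

set_option autoImplicit false
set_option maxRecDepth 100000

namespace CfsgLib.Sporadic.ThGL

/-- The matrix of a letter. -/
def lett (x : ℕ) : List ℕ := [m_a, m_b, m_c, m_d, m_e, m_s, m_t, m_u, m_si, m_ti, m_ui].getD x m_a

/-- A product of matrices is one. -/
noncomputable def isOne248 (w : List ℕ) : Bool := isOne 248 (w.map lett)

end CfsgLib.Sporadic.ThGL
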