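import Cfsg.Prelude.Def_Spor_Th

/-!
# The relators of the Thompson group as lists of letters
-/

set_option autoImplicit false

namespace CfsgLib.Sporadic.ThGL

open Cfsg.Spor

/-- The number of a letter. -/
def code : Th.Gen × Bool → ℕ
  | (Th.Gen.a, _) => 0
  | (Th.Gen.b, _) => 1
  | (Th.Gen.c, _) => 2
  | (Th.Gen.d, _) => 3
  | (Th.Gen.e, _) => 4
  | (Th.Gen.s, true) => 5
  | (Th.Gen.t, true) => 6
  | (Th.Gen.u, true) => 7
  | (Th.Gen.s, false) => 8
  | (Th.Gen.t, false) => 9
  | (Th.Gen.u, false) => 10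

/-- The letters of a word. -/
def word (r : FreeGroup Th.Gen) : List ℕ := r.toWord.map code

end CfsgLib.Sporadic.ThGL
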