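import Cfsg.Agent.Lib.Sporadic.ThGL.MatBase
import Cfsg.Agent.Lib.Sporadic.ThGL.Word

/-!
# Relators of the Thompson group on the matrices of degree 248, part 0
-/

set_option autoImplicit false
set_option maxRecDepth 100000

namespace CfsgLib.Sporadic.ThGL

open Cfsg.Spor

theorem rel0 : isOne248 (word (Th.extra.getD 0 1)) = true := by decide +kernel

theorem rel1 : isOne248 (word (Th.extra.getD 1 1)) = true := by decide +kernel

theorem rel2 : isOne248 (word (Th.extra.getD 2 1)) = true := by decide +kernel

theorem rel3 : isOne248 (word (Th.extra.getD 3 1)) = true := by decide +kernel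

theorem rel4 : isOne248 (word (Th.extra.getD 4 1)) = true := by decide +kernel

theorem rel5 : isOne248 (word (Th.extra.getD 5 1)) = true := by decide +kernel

theorem rel6 : isOne248 (word (Th.extra.getD 6 1)) = true := by decide +kernel

theorem rel7 : isOne248 (word (Th.extra.getD 7 1)) = true := by decide +kernel

theorem rel8 : isOne248 (word (Th.extra.getD 8 1)) = true := by decide +kernel

theorem rel9 : isOne248 (word (Th.extra.getD 9 1)) = true := by decide +kernel

theorem rel10 : isOne248 (word (Th.extra.getD 10 1)) = true := by decide +kernel

theorem rel11 : isOne248 (word (Th.extra.getD 11 1)) = true := by decide +kernel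

theorem rel12 : isOne248 (word (Th.extra.getD 12 1)) = true := by decide +kernel

theorem rel14 : isOne248 (word (Th.extra.getD 14 1)) = true := by decide +kernel

end CfsgLib.Sporadic.ThGL
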