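import Cfsg.Agent.Lib.Sporadic.ThGL.MatBase
import Cfsg.Agent.Lib.Sporadic.ThGL.Word

/-!
# Relators of the Thompson group on the matrices of degree 248, part 1
-/

set_option autoImplicit false
set_option maxRecDepth 100000

namespace CfsgLib.Sporadic.ThGL

open Cfsg.Spor

theorem rel13 : isOne248 (word (Th.extra.getD 13 1)) = true := by decide +kernel

end CfsgLib.Sporadic.ThGL
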