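import Cfsg.Agent.Lib.Sporadic.ThGL.MatBase
import Cfsg.Agent.Lib.Sporadic.ThGL.Word

/-!
# Relators of the Thompson group on the matrices of degree 248, part 4
-/

set_option autoImplicit false
set_option maxRecDepth 100000

namespace CfsgLib.Sporadic.ThGL

open Cfsg.Spor

theorem rel15 : isOne248 (word (Th.extra.getD 15 1)) = true := by decide +kernel

theorem rel16 : isOne248 (word (Th.extra.getD 16 1)) = true := by decide +kernel

theorem rel17 : isOne248 (word (Th.extra.getD 17 1)) = true := by decide +kernel

theorem rel18 : isOne248 (word (Th.extra.getD 18 1)) = true := by decide +kernel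

theorem rel19 : isOne248 (word (Th.extra.getD 19 1)) = true := by decide +kernel

theorem rel20 : isOne248 (word (Th.extra.getD 20 1)) = true := by decide +kernel

theorem rel21 : isOne248 (word (Th.extra.getD 21 1)) = true := by decide +kernel

theorem rel22 : isOne248 (word (Th.extra.getD 22 1)) = true := by decide +kernel

theorem rel23 : isOne248 (word (Th.extra.getD 23 1)) = true := by decide +kernel

theorem rel24 : isOne248 (word (Th.extra.getD 24 1)) = true := by decide +kernel

theorem rel25 : isOne248 (word (Th.extra.getD 25 1)) = true := by decide +kernel

theorem rel26 : isOne248 (word (Th.extra.getD 26 1)) = true := by decide +kernel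

end CfsgLib.Sporadic.ThGL
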