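import Cfsg.Agent.Lib.Sporadic.ThGL.MatBase
import Cfsg.Agent.Lib.Sporadic.ThGL.Word

/-!
# Relators of the Thompson group on the matrices of degree 248, part 5
-/

set_option autoImplicit false
set_option maxRecDepth 100000

namespace CfsgLib.Sporadic.ThGL

open Cfsg.Spor

theorem rel27 : isOne248 (word (Th.extra.getD 27 1)) = true := by decide +kernel

theorem rel28 : isOne248 (word (Th.extra.getD 28 1)) = true := by decide +kernel

theorem rel29 : isOne248 (word (Th.extra.getD 29 1)) = true := by decide +kernel

theorem rel30 : isOne248 (word (Th.extra.getD 30 1)) = true := by decide +kernel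

theorem rel31 : isOne248 (word (Th.extra.getD 31 1)) = true := by decide +kernel

theorem rel32 : isOne248 (word (Th.extra.getD 32 1)) = true := by decide +kernel

theorem rel34 : isOne248 (word (Th.extra.getD 34 1)) = true := by decide +kernel

theorem rel35 : isOne248 (word (Th.extra.getD 35 1)) = true := by decide +kernel

end CfsgLib.Sporadic.ThGL
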