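import Cfsg.Agent.Lib.Sporadic.ThGL.MatBase

/-!
# The letters: shapes, inverses and non-triviality
-/

set_option autoImplicit false
set_option maxRecDepth 100000

namespace CfsgLib.Sporadic.ThGL

theorem okLett : ∀ x < 11, okRows 248 (lett x) = true := by decide +kernel

theorem inv_a : isOne248 [0, 0] = true := by decide +kernel
theorem inv_b : isOne248 [1, 1] = true := by decide +kernel
theorem inv_c : isOne248 [2, 2] = true := by decide +kernel
theorem inv_d : isOne248 [3, 3] = true := by decide +kernel
theorem inv_e : isOne248 [4, 4] = true := by decide +kernel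
theorem inv_s : isOne248 [5, 8] = true := by decide +kernel
theorem inv_si : isOne248 [8, 5] = true := by decide +kernel
theorem inv_t : isOne248 [6, 9] = true := by decide +kernel
theorem inv_ti : isOne248 [9, 6] = true := by decide +kernel
theorem inv_u : isOne248 [7, 10] = true := by decide +kernel
theorem inv_ui : isOne248 [10, 7] = true := by decide +kernel

end CfsgLib.Sporadic.ThGL
theorem CfsgLib.Sporadic.ThGL.a_entry : CfsgLib.Sporadic.ThGL.lane ((CfsgLib.Sporadic.ThGL.lett 0).getD 0 0) 0 = 0 := by decide +kernel
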