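import Cfsg.Agent.Lib.Sporadic.ThGL.Rep
import Cfsg.Prelude.Def_Sporadic
import Cfsg.Prelude.Def_Exceptional

/-!
# The Thompson group as matrices of degree 248 over the field with three elements
-/

set_option autoImplicit false

namespace CfsgLib.Sporadic.ThGL

open Cfsg.Spor

theorem is3D4_congr {A B : Type*} [Group A] [Group B] (e : A ≃* B) (h : Cfsg.Is3D4 A) : Cfsg.Is3D4 B := by
  obtain ⟨hs, q, hq, hc⟩ := h
  have : IsSimpleGroup A := hs
  have : Nontrivial B := e.toEquiv.nontrivial_congr.1 inferInstance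
  exact ⟨IsSimpleGroup.isSimpleGroup_of_surjective e.toMonoidHom e.surjective, q, hq,
    (Nat.card_congr e.toEquiv.symm).trans hc⟩

/-- The presented group, a subgroup of the index at hand and a triality subgroup give the realisation. -/
theorem exists_realisation (hTh : Cfsg.IsTh Th) (N0 L : Subgroup Th) (hidx : N0.index = 143127000)
    (hle : L ≤ N0) (h3 : Cfsg.Is3D4 L) :
    ∃ H : Subgroup (GL (Fin 248) (ZMod 3)), Cfsg.IsTh H ∧
      ∃ K : Subgroup H, K.index = 143127000 ∧ ∃ M : Subgroup H, M ≤ K ∧ Cfsg.Is3D4 M := by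
  obtain ⟨hs, hc⟩ := hTh
  have : IsSimpleGroup Th := hs
  let e : Th ≃* rep.range := MonoidHom.ofInjective rep_injective
  have : Nontrivial rep.range := e.toEquiv.nontrivial_congr.1 inferInstance
  refine ⟨rep.range, ⟨IsSimpleGroup.isSimpleGroup_of_surjective e.toMonoidHom e.surjective,
    (Nat.card_congr e.toEquiv.symm).trans hc⟩, N0.map e.toMonoidHom, ?_, L.map e.toMonoidHom,
    Subgroup.map_mono hle, is3D4_congr (L.equivMapOfInjective e.toMonoidHom e.injective) h3⟩
  rw [Subgroup.index_map_of_bijective (f := e.toMonoidHom) e.bijective, hidx]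

end CfsgLib.Sporadic.ThGL
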