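import Cfsg.Agent.Lib.Sporadic.ThGL.MatCheckBase
import Cfsg.Agent.Lib.Sporadic.ThGL.MatCheck0
import Cfsg.Agent.Lib.Sporadic.ThGL.MatCheck1
import Cfsg.Agent.Lib.Sporadic.ThGL.MatCheck2
import Cfsg.Agent.Lib.Sporadic.ThGL.MatCheck3
import Cfsg.Agent.Lib.Sporadic.ThGL.MatCheck4
import Cfsg.Agent.Lib.Sporadic.ThGL.MatCheck5
import Cfsg.Agent.Lib.Sporadic.ThGL.MatCheck6

/-!
# The presented Thompson group acts by matrices of degree 248 over the field with three elements
-/

set_option autoImplicit false

namespace CfsgLib.Sporadic.ThGL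

open Cfsg.Spor Matrix

/-- The letter inverse to a letter. -/
def invc (x : ℕ) : ℕ := [0, 1, 2, 3, 4, 8, 9, 10, 5, 6, 7].getD x 0

/-- The matrix of a letter. -/
def mat (x : Fin 11) : Matrix (Fin 248) (Fin 248) (ZMod 3) := dec 248 (lett x)

theorem isOne248_spec {w : List ℕ} (hw : ∀ x ∈ w, x < 11) (h : isOne248 w = true) :
    (w.map fun x => dec 248 (lett x)).prod = 1 := by
  have e := isOne_spec (n := 248) (by norm_num) (by norm_num) (L := w.map lett)
    (fun G hG => by
      obtain ⟨x, hx, rfl⟩ := List.mem_map.1 hG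
      exact okLett x (hw x hx))
    h
  rwa [List.map_map] at e

theorem code_lt (p : Th.Gen × Bool) : code p < 11 := by
  rcases p with ⟨g, b⟩
  cases g <;> cases b <;> decide

theorem invc_code (g : Th.Gen) (b : Bool) : invc (code (g, b)) = code (g, !b) := by
  cases g <;> cases b <;> rfl

theorem mul_inv_code (g : Th.Gen) (b : Bool) :
    dec 248 (lett (code (g, b))) * dec 248 (lett (code (g, !b))) = 1 := by
  have key : ∀ x y, x < 11 → y < 11 → isOne248 [x, y] = true → dec 248 (lett x) * dec 248 (lett y) = 1 := by
    intro x y hx hy h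
    have e := isOne248_spec (w := [x, y]) (by simp [hx, hy]) h
    rw [List.map_cons, List.map_cons, List.map_nil, List.prod_cons, List.prod_cons, List.prod_nil, mul_one] at e
    exact e
  refine key _ _ (code_lt _) (code_lt _) ?_
  cases g <;> cases b
  · exact inv_a
  · exact inv_a
  · exact inv_b
  · exact inv_b
  · exact inv_c
  · exact inv_c
  · exact inv_d
  · exact inv_d
  · exact inv_e
  · exact inv_e
  · exact inv_si
  · exact inv_s
  · exact inv_ti
  · exact inv_t
  · exact inv_ui
  · exact inv_u

/-- The invertible matrix of a letter. -/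
def letGL (p : Th.Gen × Bool) : GL (Fin 248) (ZMod 3) where
  val := dec 248 (lett (code p))
  inv := dec 248 (lett (code (p.1, !p.2)))
  val_inv := mul_inv_code p.1 p.2
  inv_val := by
    have h := mul_inv_code p.1 (!p.2)
    rw [Bool.not_not] at h
    exact h

/-- The image of a generator. -/
def genGL (g : Th.Gen) : GL (Fin 248) (ZMod 3) := letGL (g, true)

theorem lift_eq (p : Th.Gen × Bool) : cond p.2 (genGL p.1) (genGL p.1)⁻¹ = letGL p := by
  rcases p with ⟨g, b⟩
  cases b <;> exact Units.ext rfl

theorem lift_val (r : FreeGroup Th.Gen) :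
    (FreeGroup.lift genGL r : GL (Fin 248) (ZMod 3)).val =
      ((word r).map fun x => dec 248 (lett x)).prod := by
  conv_lhs => rw [← FreeGroup.mk_toWord (x := r), FreeGroup.lift_mk]
  simp only [lift_eq]
  rw [word, ← Units.coeHom_apply, map_list_prod, List.map_map, List.map_map]
  rfl

theorem extra_length : Th.extra.length = 39 := rfl

theorem rels : ∀ i < 39, isOne248 (word (Th.extra.getD i 1)) = true := by
  intro i hi
  interval_cases i
  · exact rel0
  · exact rel1
  · exact rel2
  · exact rel3
  · exact rel4
  · exact rel5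
  · exact rel6
  · exact rel7
  · exact rel8
  · exact rel9
  · exact rel10
  · exact rel11
  · exact rel12
  · exact rel13
  · exact rel14
  · exact rel15
  · exact rel16
  · exact rel17
  · exact rel18
  · exact rel19
  · exact rel20
  · exact rel21
  · exact rel22
  · exact rel23
  · exact rel24
  · exact rel25
  · exact rel26
  · exact rel27
  · exact rel28
  · exact rel29
  · exact rel30
  · exact rel31
  · exact rel32
  · exact rel33
  · exact rel34
  · exact rel35
  · exact rel36
  · exact rel37
  · exact rel38

theorem genGL_rels (r : FreeGroup Th.Gen) (hr : r ∈ coxRelators Th.edges ∪ {r | r ∈ Th.extra}) :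
    FreeGroup.lift genGL r = 1 := by
  rcases hr with ⟨x, hx, -⟩ | hr
  · simp [coxNodes, Th.edges] at hx
  obtain ⟨i, hi, rfl⟩ := List.getElem_of_mem (show r ∈ Th.extra from hr)
  have hi' : i < 39 := extra_length ▸ hi
  apply Units.ext
  rw [lift_val, ← List.getD_eq_getElem _ 1 hi, Units.val_one]
  refine isOne248_spec (fun x hx => ?_) (rels i hi')
  obtain ⟨p, -, rfl⟩ := List.mem_map.1 hx
  exact code_lt p

/-- The representation of degree 248. -/
def rep : Th →* GL (Fin 248) (ZMod 3) := PresentedGroup.toGroup genGL_rels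

theorem rep_of (g : Th.Gen) : rep (PresentedGroup.of g) = genGL g := PresentedGroup.toGroup.of _

theorem rep_ne_one : rep ≠ 1 := by
  intro h
  have h1 := congrArg Units.val (DFunLike.congr_fun h (PresentedGroup.of Th.Gen.a))
  rw [rep_of, MonoidHom.one_apply, Units.val_one] at h1
  have h2 := congrFun (congrFun h1 (0 : Fin 248)) 0
  change ((lane ((lett 0).getD 0 0) 0 : ℕ) : ZMod 3) = _ at h2
  rw [a_entry, Matrix.one_apply_eq, Nat.cast_zero] at h2
  exact zero_ne_one h2

/-- A simple presented group is represented faithfully. -/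
theorem rep_injective [IsSimpleGroup Th] : Function.Injective rep := by
  rcases rep.normal_ker.eq_bot_or_eq_top with h | h
  · exact (MonoidHom.ker_eq_bot_iff _).1 h
  · exact absurd (MonoidHom.ker_eq_top_iff.1 h) rep_ne_one

end CfsgLib.Sporadic.ThGL
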