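import Cfsg.Agent.Lib.Sporadic.ThIndex.Simple
import Cfsg.Agent.Lib.Sporadic.ThGL.D4Sub
import Cfsg.Agent.Lib.Sporadic.ThGL.Realise

/-!
# The triality subgroup of the presented Thompson group
-/

set_option autoImplicit false
set_option maxRecDepth 100000

namespace CfsgLib.Sporadic.ThGL

open Cfsg.Spor ThIndex

/-- The letters of `a, c, d, e, s`. -/
def fiveIdx (k : ℕ) : ℕ := [0, 2, 3, 4, 5].getD k 0

/-- The elements `a, c, d, e, s`. -/
def five (k : Fin 5) : H0 := bl (fiveIdx k)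

theorem five_lt : ∀ k : Fin 5, fiveIdx k < 9 ∧ fiveIdx k ≠ 6 ∧ fiveIdx k ≠ 8 := by decide

theorem tab_five : (List.range 5).all (fun k => (List.range 819).all fun i =>
    Nat.beq (tabA (invB (fiveIdx k)) i) (D4Point.pv k i)) = true := by decide +kernel

theorem five_zero : ∀ k < 5, D4Point.pv k 0 = 0 := by decide +kernel

theorem phi_five (k : Fin 5) (i : Fin 819) : (phi (five k) i : ℕ) = D4Point.pv k i := by
  obtain ⟨h9, h6, h8⟩ := five_lt k
  have e : phi (five k) = pA (fiveIdx k) := by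
    rw [five, phi_bl]
    fin_cases k <;> rfl
  have h := Nat.eq_of_beq_eq_true (List.all_eq_true.1
    (List.all_eq_true.1 tab_five k (List.mem_range.2 k.2)) i (List.mem_range.2 i.2))
  rw [e, pA, dif_pos h9, ← h]
  exact (isTab_permF_inv (invA_at (fiveIdx k) h9) i).symm

theorem five_fix (k : Fin 5) : phi (five k) 0 = 0 := by
  apply Fin.ext
  rw [phi_five]
  exact five_zero k k.2

theorem h0_rels : D4Point.Rels (five 0) (bl 1) (five 1) (five 2) (five 3) (five 4) ∧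
    (bl 7 : H0) ^ 3 = 1 ∧ bl 7 * five 0 = five 0 * bl 7 ∧ bl 7 * bl 1 = bl 1 * bl 7 ∧
    bl 7 * five 1 = five 1 * bl 7 ∧ bl 7 * five 2 = five 2 * bl 7 ∧ bl 7 * five 3 = five 3 * bl 7 ∧
    (bl 7)⁻¹ * five 4 * bl 7 = five 4 ^ 2 := by
  have e6 : bl 6 = (bl 5)⁻¹ := rfl
  have e8 : bl 8 = (bl 7)⁻¹ := rfl
  have rel : ∀ L ∈ relW, (L.map bl).prod = 1 := fun L hL => rel_one hL
  simp only [relW, List.forall_mem_cons, List.map_cons, List.map_nil, List.prod_cons, List.prod_nil,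
    mul_one, e6, e8] at rel
  obtain ⟨r0, r1, r2, r3, r4, r5, -, r7, -, -, r10, -, r12, r13, r14, -, -, -, r18, r19, r20, r21, r22,
    r23, r24, r25, r26, -⟩ := rel
  have hinv : ∀ x : H0, x * x = 1 → x⁻¹ = x := fun x hx => inv_eq_of_mul_eq_one_right hx
  have hcomm : ∀ x : H0, x * x = 1 → (bl 7)⁻¹ * (x * (bl 7 * x)) = 1 → bl 7 * x = x * bl 7 := by
    intro x hx h
    calc bl 7 * x = x⁻¹ * (bl 7 * ((bl 7)⁻¹ * (x * (bl 7 * x)))) := by group
      _ = x * bl 7 := by rw [h, mul_one, hinv x hx]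
  simp only [show five 0 = bl 0 from rfl, show five 1 = bl 2 from rfl, show five 2 = bl 3 from rfl,
    show five 3 = bl 4 from rfl, show five 4 = bl 5 from rfl]
  refine ⟨⟨?_, ?_, ?_, ?_, ?_, ?_, ?_, ?_, ?_, ?_, ?_, ?_⟩, ?_, hcomm _ r0 r21, hcomm _ r1 r22,
    hcomm _ r2 r23, hcomm _ r3 r24, hcomm _ r4 r25, ?_⟩
  · simpa [pow_two] using r0
  · simpa [pow_two] using r1
  · simpa [pow_two] using r2
  · simpa [pow_two] using r3
  · simpa [pow_succ, mul_assoc] using r5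
  · simpa [pow_succ, mul_assoc] using r7
  · show bl 0 = (bl 2 * bl 3) ^ 4
    have e : bl 0 * (bl 3 * bl 2) ^ 4 = 1 := by simpa [pow_succ, mul_assoc] using r10
    rw [eq_inv_of_mul_eq_one_left e, ← inv_pow, mul_inv_rev, hinv _ r2, hinv _ r3]
  · simpa [pow_succ, mul_assoc] using r12
  · simpa [pow_succ, mul_assoc] using r13
  · simpa [pow_succ, mul_assoc] using r14
  · simpa [pow_succ, mul_assoc] using r18
  · show (bl 4)⁻¹ * (bl 5)⁻¹ * bl 4 * bl 5 = (bl 5 ^ 3)⁻¹ * bl 4 * bl 5 ^ 3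
    have h := r19
    have e4 := hinv _ r4
    rw [e4]
    calc bl 4 * (bl 5)⁻¹ * bl 4 * bl 5
        = bl 4 * ((bl 5)⁻¹ * (bl 4 * (bl 5 * ((bl 5)⁻¹ * ((bl 5)⁻¹ * ((bl 5)⁻¹ *
            (bl 4 * (bl 5 * (bl 5 * bl 5))))))))) * ((bl 5 ^ 3)⁻¹ * (bl 4)⁻¹ * bl 5 ^ 3) := by group
      _ = (bl 5 ^ 3)⁻¹ * bl 4 * bl 5 ^ 3 := by rw [h, one_mul, e4]
  · simpa [pow_succ, mul_assoc] using r20
  · show (bl 7)⁻¹ * bl 5 * bl 7 = bl 5 ^ 2
    calc (bl 7)⁻¹ * bl 5 * bl 7
        = (bl 7)⁻¹ * (bl 5 * (bl 7 * ((bl 5)⁻¹ * (bl 5)⁻¹))) * bl 5 ^ 2 := by group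
      _ = bl 5 ^ 2 := by rw [r26, one_mul]

theorem stab_comm (x : H0) (hx : phi x 0 = 0) : five 0 * x = x * five 0 := by
  have hm : x ∈ cSub := by
    rw [cSub_eq]
    intro i hi
    rw [show i = (0 : Fin 819) from Fin.ext (List.mem_singleton.1 hi)]
    exact hx
  exact (cSub_comm hm).eq

theorem chi_bl : ∀ x < 8, chi (bl x) = if x = 7 then Multiplicative.ofAdd 1 else 1 := by
  intro x hx
  rw [chi, homOf_bl]
  interval_cases x <;> decide

/-- The triality subgroup inside the group on seven generators. -/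
def trial : Subgroup H0 := Subgroup.closure (D4Point.six five (bl 1))

theorem is3D4_trial : Cfsg.Is3D4 trial := by
  obtain ⟨R, ht, hta, htb, htc, htd, hte, hts⟩ := h0_rels
  refine D4Point.is3D4_six phi phi_injective (fun u => ?_) five (bl 1) (bl 7) phi_five five_fix R ?_ ht
    hta htb htc htd hte hts chi ?_ ?_ stab_comm card_H0
  · obtain ⟨g, hg⟩ := orbit_A u
    exact ⟨g, hg⟩
  · rw [eq_top_iff, ← closure_gen, Subgroup.closure_le]
    rintro _ ⟨x, rfl⟩
    refine Subgroup.subset_closure ?_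
    cases x
    · exact Or.inl (show bl 0 ∈ D4Point.six five (bl 1) by simp [D4Point.six, five, fiveIdx])
    · exact Or.inl (show bl 1 ∈ D4Point.six five (bl 1) by simp [D4Point.six, five, fiveIdx])
    · exact Or.inl (show bl 2 ∈ D4Point.six five (bl 1) by simp [D4Point.six, five, fiveIdx])
    · exact Or.inl (show bl 3 ∈ D4Point.six five (bl 1) by simp [D4Point.six, five, fiveIdx])
    · exact Or.inl (show bl 4 ∈ D4Point.six five (bl 1) by simp [D4Point.six, five, fiveIdx])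
    · exact Or.inl (show bl 5 ∈ D4Point.six five (bl 1) by simp [D4Point.six, five, fiveIdx])
    · exact Or.inr (show bl 7 ∈ ({bl 7} : Set H0) from rfl)
  · intro x hx
    rcases hx with rfl | rfl | rfl | rfl | rfl | rfl
    exacts [chi_bl 0 (by norm_num), chi_bl 1 (by norm_num), chi_bl 2 (by norm_num),
      chi_bl 3 (by norm_num), chi_bl 4 (by norm_num), chi_bl 5 (by norm_num)]
  · rw [chi_bl 7 (by norm_num), if_pos rfl]
    decide

/-- Order and index give the realisation. -/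
theorem exists_realisation_of (hd : 90745943887872000 ∣ Nat.card ThG) :
    ∃ H : Subgroup (GL (Fin 248) (ZMod 3)), Cfsg.IsTh H ∧
      ∃ K : Subgroup H, K.index = 143127000 ∧ ∃ L : Subgroup H, L ≤ K ∧ Cfsg.Is3D4 L := by
  have hinj := h0Hom_injective_of hd
  refine exists_realisation ⟨isSimple_of hd, card_ThG_of hd⟩ N0 (trial.map h0Hom) (exact_count hd).2 ?_
    (is3D4_congr (trial.equivMapOfInjective h0Hom hinj) is3D4_trial)
  rw [← h0Hom_range]
  exact Subgroup.map_le_range h0Hom trial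

end CfsgLib.Sporadic.ThGL
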